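import Groth.Agent.StabLib.Filt
import Groth.Agent.StabLib.Morph
import Groth.Agent.CurvLib.Divisor
import Groth.Agent.KFlatLib.StalkTensor
import Groth.Prelude.Def_ParBun
import Groth.Prelude.Def_W4swparbununimodPar

/-!
# Hilbert polynomials of the pieces of a parabolic structure
-/

set_option autoImplicit false
set_option linter.style.haveILetI false
set_option backward.isDefEq.respectTransparency false
set_option maxHeartbeats 800000
universe u

open CategoryTheory CategoryTheory.Limits AlgebraicGeometry MonoidalCategory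
open StabLib HilbPolyLib DevissLib

noncomputable section

namespace ParHilbLib

variable {X : Scheme.{u}}

/-- Off the divisor the multiplication map by its ideal is surjective on stalks. -/
theorem notMem_support_coker_twist (I : X.IdealSheafData) (E : X.Modules) {x : X}
    (hx : x ∉ (I.support : Set X)) : x ∉ CohB1.support (cokernel (ParSh.twistMap I E)) := by
  refine notMem_support_cokernel _ x ?_
  have hS := CurvLib.idealSeq_shortExact I
  have hz : IsZero ((St x).obj (CurvLib.idealSeq I).X₃) :=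
    (notMem_support_iff _ x).mp fun h => hx (CurvLib.support_quotMod_subset I h)
  haveI : IsIso ((St x).map (ClSub.idealModι I)) :=
    ((hS.map_of_exact (St x)).isIso_f_iff).mpr hz
  haveI : IsIso ((St x).map (((DCoh.tensorBi (X := X)).obj E).map (ClSub.idealModι I))) := by
    have h := KFlatLib.stalkTensorIso_natural_right (M := E) (x := x) (ClSub.idealModι I)
    haveI : IsIso ((KFlatLib.stalkTensorIso E (ClSub.idealMod I) x).hom ≫
        (St x).map (((DCoh.tensorBi (X := X)).obj E).map (ClSub.idealModι I))) := by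
      rw [← h]; infer_instance
    exact IsIso.of_isIso_comp_left (KFlatLib.stalkTensorIso E (ClSub.idealMod I) x).hom _
  have : Epi ((St x).map (ParSh.twistMap I E)) := by
    rw [ParSh.twistMap, ← KoszTw.tensorBi_obj_map, Functor.map_comp]
    infer_instance
  exact (ModuleCat.epi_iff_surjective _).mp this

variable {E : X.Modules}

/-- The quotient by a smaller subobject covers the quotient by a larger one. -/
theorem support_coker_mono {a b : Subobject E} (h : a ≤ b) :
    CohB1.support (cokernel b.arrow) ⊆ CohB1.support (cokernel a.arrow) := by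
  let q : cokernel a.arrow ⟶ cokernel b.arrow :=
    cokernel.desc a.arrow (cokernel.π b.arrow)
      (by rw [← Subobject.ofLE_arrow h, Category.assoc, cokernel.condition, comp_zero])
  haveI : Epi (cokernel.π a.arrow ≫ q) := by rw [cokernel.π_desc]; infer_instance
  haveI : Epi q := epi_of_epi (cokernel.π a.arrow) q
  exact support_epi q

theorem support_coker_twistSub (I : X.IdealSheafData) (E : X.Modules) :
    CohB1.support (cokernel (ParSh.twistSub I E).arrow) ⊆ CohB1.support E ∩ (I.support : Set X) := by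
  refine Set.subset_inter (support_epi (cokernel.π _)) fun x hx => ?_
  by_contra h
  refine notMem_support_coker_twist I E h ?_
  let q : cokernel (ParSh.twistMap I E) ⟶ cokernel (ParSh.twistSub I E).arrow :=
    cokernel.desc _ (cokernel.π _) (by
      rw [← imageSubobject_arrow_comp (ParSh.twistMap I E), Category.assoc]
      exact (congrArg _ (cokernel.condition _)).trans comp_zero)
  haveI : Epi (cokernel.π (ParSh.twistMap I E) ≫ q) := by rw [cokernel.π_desc]; infer_instance
  haveI : Epi q := epi_of_epi (cokernel.π (ParSh.twistMap I E)) q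
  exact support_epi q hx

theorem support_coker_piece (I : X.IdealSheafData) {𝓔 : ParSh.Str E} (h : 𝓔.Along I) (j : Fin (𝓔.l + 2)) :
    CohB1.support (cokernel (𝓔.pieceX j).arrow) ⊆ CohB1.support E ∩ (I.support : Set X) :=
  (support_coker_mono (𝓔.bot_le_pieceX j)).trans (h ▸ support_coker_twistSub I E)

/-- A pulled back subobject has smaller quotient. -/
theorem support_coker_pullback {W : X.Modules} (ι : W ⟶ E) [Mono ι] (a : Subobject E) :
    CohB1.support (cokernel ((Subobject.pullback ι).obj a).arrow) ⊆ CohB1.support (cokernel a.arrow) := by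
  intro x hx
  by_contra h
  refine notMem_support_cokernel _ x ?_ hx
  have sq := Subobject.isPullback ι a
  have hk : ((Subobject.pullback ι).obj a).arrow ≫ ι ≫ cokernel.π a.arrow = 0 := by
    rw [← Category.assoc, ← sq.w, Category.assoc, cokernel.condition, comp_zero]
  let t : kernel (ι ≫ cokernel.π a.arrow) ⟶ (((Subobject.pullback ι).obj a : Subobject W) : X.Modules) :=
    sq.lift (Abelian.monoLift a.arrow (kernel.ι (ι ≫ cokernel.π a.arrow) ≫ ι)
      (by rw [Category.assoc, kernel.condition])) (kernel.ι _) (Abelian.monoLift_comp _ _ _)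
  have ht : t ≫ ((Subobject.pullback ι).obj a).arrow = kernel.ι (ι ≫ cokernel.π a.arrow) := sq.lift_snd _ _ _
  have hz : IsZero ((St x).obj (cokernel a.arrow)) := (notMem_support_iff _ x).mp h
  haveI : Epi (kernel.ι ((St x).map (ι ≫ cokernel.π a.arrow))) :=
    epi_of_epi_fac (kernel.lift_ι ((St x).map (ι ≫ cokernel.π a.arrow)) (𝟙 _) (hz.eq_of_tgt _ _))
  haveI : Epi ((St x).map (kernel.ι (ι ≫ cokernel.π a.arrow))) := by
    rw [← kernelComparison_comp_ι (ι ≫ cokernel.π a.arrow) (St x)]; infer_instance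
  haveI : Epi ((St x).map t ≫ (St x).map ((Subobject.pullback ι).obj a).arrow) := by
    rw [← Functor.map_comp, ht]; infer_instance
  exact (ModuleCat.epi_iff_surjective _).mp (epi_of_epi ((St x).map t) _)

variable {k : Type u} [Field k] [X.Over (Spec (CommRingCat.of k))] [IsProper (X ↘ Spec (CommRingCat.of k))]
  {L : X.Modules} (hA : CohB1.IsAmple L)

include hA in
/-- Small support kills the high coefficients. -/
theorem coeff_eq_zero {F : X.Modules} (hF : Coh.IsCoh F) {P : Polynomial ℚ}
    (hP : ShStab.IsHilbPoly k X L F P) {d : ℕ}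
    (hd : topologicalKrullDim (CohB1.support F) < (d : WithBot ℕ∞)) {n : ℕ} (hn : d ≤ n) : P.coeff n = 0 := by
  obtain ⟨Q, hQ, hQ'⟩ := exists_isHilbPoly (k := k) hA.1 hF hd
  rw [isHilbPoly_unique hP hQ']
  exact Polynomial.coeff_eq_zero_of_degree_lt (hQ.trans_le (by exact_mod_cast hn))

include hA in
theorem natDegree_le_pred {F : X.Modules} (hF : Coh.IsCoh F) {P : Polynomial ℚ}
    (hP : ShStab.IsHilbPoly k X L F P) {d : ℕ}
    (hd : topologicalKrullDim (CohB1.support F) < (d : WithBot ℕ∞)) : P.natDegree ≤ d - 1 :=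
  Polynomial.natDegree_le_iff_coeff_eq_zero.mpr fun n hn => coeff_eq_zero hA hF hP hd (n := n) (by omega)

include hA in
theorem isHilbPoly_of_cokernel {A B : X.Modules} (f : A ⟶ B) [Mono f] (h₁ : Coh.IsCoh A) (h₂ : Coh.IsCoh B)
    {P Q H : Polynomial ℚ} (hP : ShStab.IsHilbPoly k X L A P) (hQ : ShStab.IsHilbPoly k X L B Q)
    (hH : ShStab.IsHilbPoly k X L (cokernel f) H) : Q = P + H := by
  rw [← hPoly_eq hA h₁ hP, ← hPoly_eq hA h₂ hQ, ← hPoly_eq hA (QCohLib.isCoh_cokernel f h₁.1 h₂) hH]
  exact hPoly_coker hA f h₁ h₂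

include hA in
/-- Facts on the Hilbert polynomials of a coherent structure along a divisor. -/
theorem piece_data (I : X.IdealSheafData) (hE : Coh.IsCoh E) {𝓔 : ParSh.Str E} (h : 𝓔.Along I)
    (hcoh : ∀ j, Coh.IsCoh ((𝓔.pieceX j : Subobject E) : X.Modules)) {d : ℕ}
    (hsupp : topologicalKrullDim ↥(CohB1.support E ∩ (I.support : Set X)) < (d : WithBot ℕ∞))
    {P : Polynomial ℚ} (hP : ShStab.IsHilbPoly k X L E P) {PX : Fin (𝓔.l + 2) → Polynomial ℚ}
    (hPX : ∀ j, ShStab.IsHilbPoly k X L ((𝓔.pieceX j : Subobject E) : X.Modules) (PX j)) :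
    (∀ j n, d ≤ n → (PX j).coeff n = P.coeff n) ∧ (∀ j, (P - PX j).natDegree ≤ d - 1) ∧
      PX (0 : Fin (𝓔.l + 2)) = P := by
  have key : ∀ j, Coh.IsCoh (cokernel (𝓔.pieceX j).arrow) ∧
      P - PX j = HPoly k L (cokernel (𝓔.pieceX j).arrow) := fun j => by
    have hc := QCohLib.isCoh_cokernel (𝓔.pieceX j).arrow (hcoh j).1 hE
    refine ⟨hc, ?_⟩
    rw [isHilbPoly_of_cokernel hA (𝓔.pieceX j).arrow (hcoh j) hE (hPX j) hP (hPoly_spec hA hc),
      add_sub_cancel_left]
  have hdim := fun j => (dim_mono (support_coker_piece I h j)).trans_lt hsupp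
  refine ⟨fun j n hn => ?_, fun j => (key j).2 ▸ natDegree_le_pred hA (key j).1 (hPoly_spec hA (key j).1) (hdim j), ?_⟩
  · have e := congrArg (fun R => Polynomial.coeff R n) (key j).2
    simp only [Polynomial.coeff_sub] at e
    rw [coeff_eq_zero hA (key j).1 (hPoly_spec hA (key j).1) (hdim j) hn] at e
    linarith
  · have h0 : 𝓔.pieceX 0 = ⊤ := by
      rw [← Fin.castSucc_zero, ParSh.Str.pieceX_castSucc, 𝓔.piece_zero]
    refine isHilbPoly_unique (isHilbPoly_congr ?_ (hPX 0)) hP
    haveI : IsIso (𝓔.pieceX 0).arrow := (Subobject.isIso_arrow_iff_eq_top _).mpr h0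
    exact asIso (𝓔.pieceX 0).arrow

include hA in
/-- Hilbert polynomials grow along inclusions. -/
theorem nn_of_le {A B : Subobject E} (hle : A ≤ B) (hAc : Coh.IsCoh (A : X.Modules))
    (hBc : Coh.IsCoh (B : X.Modules)) {P Q : Polynomial ℚ} (hP : ShStab.IsHilbPoly k X L (A : X.Modules) P)
    (hQ : ShStab.IsHilbPoly k X L (B : X.Modules) Q) : Nn (Q - P) := by
  have hc := QCohLib.isCoh_cokernel (Subobject.ofLE A B hle) hAc.1 hBc
  rw [isHilbPoly_of_cokernel hA (Subobject.ofLE A B hle) hAc hBc hP hQ (hPoly_spec hA hc), add_sub_cancel_left]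
  exact hPoly_nn hA hc

theorem pieceX_succ_le (𝓔 : ParSh.Str E) (j : Fin (𝓔.l + 1)) : 𝓔.pieceX j.succ ≤ 𝓔.pieceX j.castSucc := by
  induction j using Fin.lastCases with
  | last => simp [𝓔.bot_le]
  | cast i =>
    rw [ParSh.Str.pieceX_succ_castSucc, ParSh.Str.pieceX_castSucc]
    exact 𝓔.piece_anti (Fin.castSucc_lt_succ (i := i)).le

theorem wtX_step (𝓔 : ParSh.Str E) (j : Fin (𝓔.l + 1)) : 𝓔.wtX j.castSucc ≤ 𝓔.wtX j.succ := by
  induction j using Fin.lastCases with
  | last => simpa [Fin.succ_last] using 𝓔.wt_lt_one.le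
  | cast i =>
    rw [Fin.succ_castSucc, ParSh.Str.wtX_castSucc, ParSh.Str.wtX_castSucc]
    exact (𝓔.wt_strictMono (Fin.castSucc_lt_succ (i := i))).le

theorem wt_bounds (𝓔 : ParSh.Str E) (j : Fin (𝓔.l + 1)) : 0 ≤ 𝓔.wt j ∧ 𝓔.wt j < 1 :=
  ⟨𝓔.wt_nonneg.trans (𝓔.wt_strictMono.monotone (Fin.zero_le j)),
    lt_of_le_of_lt (𝓔.wt_strictMono.monotone (Fin.le_last j)) 𝓔.wt_lt_one⟩

end ParHilbLib
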