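import Groth.Agent.ParHilbLib.Semi

/-!
# Kernel and image of a map between semistable filtered sheaves
-/

set_option autoImplicit false
set_option linter.style.haveILetI false
set_option maxHeartbeats 800000
universe u

open CategoryTheory CategoryTheory.Limits AlgebraicGeometry Polynomial W4swparbununimod
open StabLib HilbPolyLib DevissLib Filter

noncomputable section

namespace ParHilbLib

/-- The weighted value of a family of polynomials. -/
def parE {l : ℕ} (w : Fin (l + 2) → ℝ) (A : Fin (l + 2) → ℚ[X]) (m : ℕ) : ℝ :=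
  w 0 * (((A 0).eval (m : ℚ) : ℚ) : ℝ) +
    ∑ i : Fin (l + 1), (w i.succ - w i.castSucc) * (((A i.succ).eval (m : ℚ) : ℚ) : ℝ)

theorem parE_cast {l l' : ℕ} (h : l = l') (w : Fin (l' + 2) → ℝ) (A : Fin (l' + 2) → ℚ[X]) (m : ℕ) :
    parE w A m = parE (fun j => w (Fin.cast (by rw [h]) j)) (fun j => A (Fin.cast (by rw [h]) j) : Fin (l + 2) → ℚ[X]) m := by
  subst h; rfl

theorem parE_add {l : ℕ} (w : Fin (l + 2) → ℝ) (A B : Fin (l + 2) → ℚ[X]) (m : ℕ) :
    parE w (fun j => A j + B j) m = parE w A m + parE w B m := by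
  simp only [parE, Polynomial.eval_add, Rat.cast_add, mul_add, Finset.sum_add_distrib]
  ring

theorem parE_congr {l : ℕ} (w : Fin (l + 2) → ℝ) {A B : Fin (l + 2) → ℚ[X]} (h : ∀ j, A j = B j) (m : ℕ) :
    parE w A m = parE w B m := by rw [funext h]

theorem parE_mono {l : ℕ} {w : Fin (l + 2) → ℝ} (hw0 : 0 ≤ w 0) (hwm : ∀ j : Fin (l + 1), w j.castSucc ≤ w j.succ)
    {A B : Fin (l + 2) → ℚ[X]} (h : ∀ j, ∀ᶠ m : ℕ in atTop, (A j).eval (m : ℚ) ≤ (B j).eval (m : ℚ)) :
    ∀ᶠ m : ℕ in atTop, parE w A m ≤ parE w B m := by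
  filter_upwards [eventually_all.mpr h] with m hm
  exact add_le_add (mul_le_mul_of_nonneg_left (Rat.cast_le.mpr (hm 0)) hw0) (Finset.sum_le_sum fun i _ =>
    mul_le_mul_of_nonneg_left (Rat.cast_le.mpr (hm i.succ)) (sub_nonneg.mpr (hwm i)))

theorem eq_of_eventually {K : Type*} [Field K] [CharZero K] {R S : K[X]}
    (h : ∀ᶠ m : ℕ in atTop, R.eval (m : K) = S.eval (m : K)) : R = S := by
  obtain ⟨M, hM⟩ := eventually_atTop.mp h
  exact Polynomial.eq_of_infinite_eval_eq _ _
    (((Set.Ici_infinite M).image Nat.cast_injective.injOn).mono (Set.image_subset_iff.mpr fun m hm => hM m hm))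

theorem parE_eq_imp {l : ℕ} {w : Fin (l + 2) → ℝ} (hw0 : 0 < w 0)
    (hwm : ∀ j : Fin (l + 1), w j.castSucc < w j.succ) {A B : Fin (l + 2) → ℚ[X]}
    (h : ∀ j, ∀ᶠ m : ℕ in atTop, (A j).eval (m : ℚ) ≤ (B j).eval (m : ℚ))
    (he : ∀ᶠ m : ℕ in atTop, parE w A m = parE w B m) : ∀ j, A j = B j := by
  intro j
  refine eq_of_eventually ?_
  filter_upwards [eventually_all.mpr h, he] with m hm hem
  have h0 := mul_le_mul_of_nonneg_left (Rat.cast_le (K := ℝ).mpr (hm 0)) hw0.le
  have hs : ∀ i : Fin (l + 1), (w i.succ - w i.castSucc) * (((A i.succ).eval (m : ℚ) : ℚ) : ℝ) ≤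
      (w i.succ - w i.castSucc) * (((B i.succ).eval (m : ℚ) : ℚ) : ℝ) := fun i =>
    mul_le_mul_of_nonneg_left (Rat.cast_le.mpr (hm i.succ)) (sub_nonneg.mpr (hwm i).le)
  have hsum := Finset.sum_le_sum (s := Finset.univ) fun i _ => hs i
  simp only [parE] at hem
  induction j using Fin.cases with
  | zero =>
    have : w 0 * (((A 0).eval (m : ℚ) : ℚ) : ℝ) = w 0 * (((B 0).eval (m : ℚ) : ℚ) : ℝ) := by linarith
    exact Rat.cast_injective (mul_left_cancel₀ hw0.ne' this)
  | succ i =>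
    have hi := (Finset.sum_eq_sum_iff_of_le fun i _ => hs i).mp (by linarith) i (Finset.mem_univ _)
    exact Rat.cast_injective (mul_left_cancel₀ (sub_pos.mpr (hwm i)).ne' hi)

variable {X : Scheme.{u}}

theorem coinduced_pieceX {E G : X.Modules} (𝓔 : ParSh.Str E) (p : E ⟶ G) [Epi p] (j : Fin (𝓔.l + 2)) :
    (𝓔.coinduced p).pieceX j = imageSubobject ((𝓔.pieceX j).arrow ≫ p) := by
  induction j using Fin.lastCases with
  | last =>
    exact ((𝓔.coinduced p).pieceX_last).trans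
      (congrArg (fun a : Subobject E => imageSubobject (a.arrow ≫ p)) 𝓔.pieceX_last.symm)
  | cast i =>
    exact ((𝓔.coinduced p).pieceX_castSucc i).trans
      (congrArg (fun a : Subobject E => imageSubobject (a.arrow ≫ p)) (𝓔.pieceX_castSucc i).symm)

theorem wtX_lt {E : X.Modules} (𝓔 : ParSh.Str E) (j : Fin (𝓔.l + 1)) :
    𝓔.wtX j.castSucc < 𝓔.wtX j.succ := by
  rw [ParSh.Str.wtX_castSucc]
  induction j using Fin.lastCases with
  | last => rw [Fin.succ_last, ParSh.Str.wtX_last]; exact 𝓔.wt_lt_one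
  | cast i =>
    rw [Fin.succ_castSucc, ParSh.Str.wtX_castSucc]
    exact 𝓔.wt_strictMono i.castSucc_lt_succ

theorem wtX_zero {E : X.Modules} (𝓔 : ParSh.Str E) : 𝓔.wtX 0 = 𝓔.wt 0 := by
  rw [← Fin.castSucc_zero, ParSh.Str.wtX_castSucc]

theorem pieceX_zero {E : X.Modules} (𝓔 : ParSh.Str E) : 𝓔.pieceX 0 = ⊤ := by
  rw [← Fin.castSucc_zero, ParSh.Str.pieceX_castSucc, 𝓔.piece_zero]

theorem exists_mono_pullback {E W W' : X.Modules} (ι : W ⟶ E) [Mono ι] (ι' : W' ⟶ E) (t : W ⟶ W')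
    (ht : t ≫ ι' = ι) (a : Subobject E) :
    ∃ f : (((Subobject.pullback ι).obj a : Subobject W) : X.Modules) ⟶
      (((Subobject.pullback ι').obj a : Subobject W') : X.Modules), Mono f := by
  let f := (Subobject.isPullback ι' a).lift (Subobject.pullbackπ ι a)
    (((Subobject.pullback ι).obj a).arrow ≫ t)
    (by rw [(Subobject.isPullback ι a).w, Category.assoc, ht])
  haveI : Mono t := mono_of_mono_fac ht
  haveI : Mono (f ≫ ((Subobject.pullback ι').obj a).arrow) := by
    rw [IsPullback.lift_snd]; infer_instance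
  exact ⟨f, mono_of_mono f ((Subobject.pullback ι').obj a).arrow⟩

theorem isPure_coker_congr {d : ℕ} {A B F : X.Modules} (u : A ⟶ F) (v : B ⟶ F) (t : A ⟶ B) [IsIso t]
    (ht : t ≫ v = u) (h : ShStab.IsPure X (cokernel v) d) : ShStab.IsPure X (cokernel u) d :=
  StabLib.isPure_congr ((cokernelIsoOfEq ht.symm) ≪≫ cokernelEpiComp t v).symm h

variable {k : Type u} [Field k] [X.Over (Spec (CommRingCat.of k))]
  [IsProper (X ↘ Spec (CommRingCat.of k))] {L : X.Modules} (hA : CohB1.IsAmple L)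

include hA

theorem eval_parPoly_hPoly {G : X.Modules} (𝓖 : ParSh.Str G)
    (hc : ∀ j, Coh.IsCoh ((𝓖.pieceX j : Subobject G) : X.Modules)) {R : Fin (𝓖.l + 2) → ℚ[X]}
    (hR : ∀ j, ShStab.IsHilbPoly k X L ((𝓖.pieceX j : Subobject G) : X.Modules) (R j)) (m : ℕ) :
    (parPoly 𝓖 R).eval (m : ℝ) = parE 𝓖.wtX (fun j => HPoly k L ((𝓖.pieceX j : Subobject G) : X.Modules)) m := by
  rw [eval_parPoly']
  exact parE_congr _ (fun j => (hPoly_eq hA (hc j) (hR j)).symm) m

theorem isIso_of_hPoly {A B : X.Modules} (f : A ⟶ B) [Mono f] (h₁ : Coh.IsCoh A) (h₂ : Coh.IsCoh B)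
    (e : HPoly k L A = HPoly k L B) : IsIso f := by
  refine isIso_of_isZero_coker f (by_contra fun h => ?_)
  refine ps_ne_zero (hPoly_ps (k := k) hA (QCohLib.isCoh_cokernel f h₁.1 h₂) h) ?_
  have := hPoly_coker (k := k) hA f h₁ h₂
  rw [← e] at this
  exact left_eq_add.mp this

theorem eq_of_le_of_hPoly {M : X.Modules} {A B : Subobject M} (h : A ≤ B) (h₁ : Coh.IsCoh (A : X.Modules))
    (h₂ : Coh.IsCoh (B : X.Modules)) (e : HPoly k L (A : X.Modules) = HPoly k L (B : X.Modules)) : A = B := by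
  haveI := isIso_of_hPoly hA (Subobject.ofLE A B h) h₁ h₂ e
  exact Subobject.eq_of_comm (asIso (Subobject.ofLE A B h)) (Subobject.ofLE_arrow h)

theorem hPoly_top {M : X.Modules} (hM : Coh.IsCoh M) :
    HPoly k L ((⊤ : Subobject M) : X.Modules) = HPoly k L M :=
  hPoly_congr hA (QCohLib.isCoh_of_iso (asIso (⊤ : Subobject M).arrow).symm hM) (asIso (⊤ : Subobject M).arrow)

theorem eval_induced {G W : X.Modules} (hG : Coh.IsCoh G) (𝓖 : ParSh.Str G)
    (hc : ∀ j, Coh.IsCoh ((𝓖.pieceX j : Subobject G) : X.Modules)) (ι : W ⟶ G) [Mono ι] (hW : Coh.IsCoh W)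
    (QX : Fin (𝓖.l + 2) → ℚ[X])
    (hQX : ∀ j, ShStab.IsHilbPoly k X L (((𝓖.induced ι).pieceX j : Subobject W) : X.Modules) (QX j)) (m : ℕ) :
    (parPoly (𝓖.induced ι) QX).eval (m : ℝ) =
      parE 𝓖.wtX (fun i => HPoly k L (((Subobject.pullback ι).obj (𝓖.pieceX i) : Subobject W) : X.Modules)) m := by
  have h : (fun i => HPoly k L (((Subobject.pullback ι).obj (𝓖.pieceX i) : Subobject W) : X.Modules)) = QX :=
    funext fun i =>
      (congrArg (fun a : Subobject W => HPoly k L (a : X.Modules)) (induced_pieceX 𝓖 ι i)).symm.trans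
        (hPoly_eq hA (isCoh_induced k hG 𝓖 hc ι hW i) (hQX i))
  rw [h]
  exact eval_parPoly' (𝓖.induced ι) QX m

/-- The abstract form, with two families of pieces over the same weights. -/
theorem kerIm_core {d : ℕ} {E F K V : X.Modules} (hE : Coh.IsCoh E) (hF : Coh.IsCoh F) (hE0 : ¬ IsZero E)
    (hF0 : ¬ IsZero F) (hEp : ShStab.IsPure X E d) (hFp : ShStab.IsPure X F d)
    {l : ℕ} (w : Fin (l + 2) → ℝ) (hw0 : 0 < w 0) (hwm : ∀ j : Fin (l + 1), w j.castSucc < w j.succ)
    (A : Fin (l + 2) → Subobject E) (hA0 : A 0 = ⊤) (hAc : ∀ j, Coh.IsCoh (A j : X.Modules))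
    (B : Fin (l + 2) → Subobject F) (hB0 : B 0 = ⊤) (hBc : ∀ j, Coh.IsCoh (B j : X.Modules))
    (hssE : ∀ (W : X.Modules) (ι : W ⟶ E), Mono ι → Coh.IsCoh W → ¬ IsZero W → ShStab.IsPure X (cokernel ι) d →
      ∀ᶠ m : ℕ in atTop, parE w (fun i => HPoly k L (((Subobject.pullback ι).obj (A i) : Subobject W) : X.Modules)) m *
          (StabCat.alpha d (HPoly k L E) : ℝ) ≤
        parE w (fun i => HPoly k L (A i : X.Modules)) m * (StabCat.alpha d (HPoly k L W) : ℝ))
    (hssF : ∀ (W : X.Modules) (ι : W ⟶ F), Mono ι → Coh.IsCoh W → ¬ IsZero W → ShStab.IsPure X (cokernel ι) d →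
      ∀ᶠ m : ℕ in atTop, parE w (fun i => HPoly k L (((Subobject.pullback ι).obj (B i) : Subobject W) : X.Modules)) m *
          (StabCat.alpha d (HPoly k L F) : ℝ) ≤
        parE w (fun i => HPoly k L (B i : X.Modules)) m * (StabCat.alpha d (HPoly k L W) : ℝ))
    (hred : ∀ m : ℕ, parE w (fun i => HPoly k L (A i : X.Modules)) m * (StabCat.alpha d (HPoly k L F) : ℝ) =
      parE w (fun i => HPoly k L (B i : X.Modules)) m * (StabCat.alpha d (HPoly k L E) : ℝ))
    (j : K ⟶ E) [Mono j] (q : E ⟶ V) [Epi q] (hjq : j ≫ q = 0) (hS : (ShortComplex.mk j q hjq).ShortExact)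
    (u : V ⟶ F) [Mono u] (hmap : ∀ i, imageSubobject ((A i).arrow ≫ q) ≤ (Subobject.pullback u).obj (B i)) :
    (∀ᶠ m : ℕ in atTop, parE w (fun i => HPoly k L (((Subobject.pullback j).obj (A i) : Subobject K) : X.Modules)) m *
          (StabCat.alpha d (HPoly k L E) : ℝ) =
        parE w (fun i => HPoly k L (A i : X.Modules)) m * (StabCat.alpha d (HPoly k L K) : ℝ)) ∧
      ShStab.IsPure X (cokernel u) d ∧
      (∀ i, imageSubobject ((A i).arrow ≫ q) = (Subobject.pullback u).obj (B i)) := by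
  haveI := CurvLib.isNoetherian k (X := X)
  have hdE := hEp E (𝟙 E) inferInstance hE hE0
  have hdF := hFp F (𝟙 F) inferInstance hF hF0
  have hP : 0 < StabCat.alpha d (HPoly k L E) := (hPoly_alpha_pos_iff hA hE hdE.le).mpr hdE
  have hR : 0 < StabCat.alpha d (HPoly k L F) := (hPoly_alpha_pos_iff hA hF hdF.le).mpr hdF
  haveI : StrongEpi q := strongEpi_of_epi q
  have hV : Coh.IsCoh V := QCohLib.isCoh_of_iso
    (Abelian.imageIsoImage (q ≫ u) ≪≫ (image.isoStrongEpiMono q u rfl).symm) (DevissLib.isCoh_image (q ≫ u) hE hF)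
  have hK : Coh.IsCoh K := QCohLib.isCoh_of_iso
    (IsLimit.conePointUniqueUpToIso (kernelIsKernel q) hS.fIsKernel) (QCohLib.isCoh_kernel q hE hV.1)
  have eK : cokernel j ≅ V := IsColimit.coconePointUniqueUpToIso (cokernelIsCokernel j) hS.gIsCokernel
  have hVp : ShStab.IsPure X V d := fun G κ hκ hG hG0 =>
    hFp G (κ ≫ u) (mono_comp κ u) hG hG0
  have hα : StabCat.alpha d (HPoly k L E) = StabCat.alpha d (HPoly k L K) + StabCat.alpha d (HPoly k L V) := by
    rw [← StabLib.alpha_add]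
    exact congrArg (StabCat.alpha d) (hPoly_add (k := k) (S := ShortComplex.mk j q hjq) hA hS hK hE hV)
  have hadd := fun i => parHilb_add (k := k) hA hK hE hV j q hjq hS (A i) (hAc i)
  have hsum : ∀ m : ℕ, parE w (fun i => HPoly k L (((Subobject.pullback j).obj (A i) : Subobject K) : X.Modules)) m +
      parE w (fun i => HPoly k L ((imageSubobject ((A i).arrow ≫ q) : Subobject V) : X.Modules)) m =
      parE w (fun i => HPoly k L (A i : X.Modules)) m := fun m => by
    rw [← parE_add]; exact parE_congr _ (fun i => (hadd i).1) m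
  have hk : ∀ᶠ m : ℕ in atTop,
      parE w (fun i => HPoly k L (((Subobject.pullback j).obj (A i) : Subobject K) : X.Modules)) m *
          (StabCat.alpha d (HPoly k L E) : ℝ) ≤
        parE w (fun i => HPoly k L (A i : X.Modules)) m * (StabCat.alpha d (HPoly k L K) : ℝ) := by
    by_cases hK0 : IsZero K
    · refine Eventually.of_forall fun m => le_of_eq ?_
      have hz : ∀ i, HPoly k L (((Subobject.pullback j).obj (A i) : Subobject K) : X.Modules) = 0 := fun i =>
        hPoly_zero hA (IsZero.of_mono ((Subobject.pullback j).obj (A i)).arrow hK0)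
      simp [parE, hz, hPoly_zero hA hK0, StabLib.alpha_zero]
    · exact hssE K j inferInstance hK hK0 (StabLib.isPure_congr eK.symm hVp)
  obtain ⟨W', ι', t, hι', ht, hW', hαW, -, hpure⟩ := exists_sat (k := k) hA hF hdF.le u hV
  haveI := hι'
  haveI : Mono t := mono_of_mono_fac ht
  have hf : ∀ᶠ m : ℕ in atTop,
      parE w (fun i => HPoly k L (((Subobject.pullback ι').obj (B i) : Subobject W') : X.Modules)) m *
          (StabCat.alpha d (HPoly k L F) : ℝ) ≤
        parE w (fun i => HPoly k L (B i : X.Modules)) m * (StabCat.alpha d (HPoly k L V) : ℝ) := by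
    rw [← hαW]
    by_cases hW0 : IsZero W'
    · refine Eventually.of_forall fun m => le_of_eq ?_
      have hz : ∀ i, HPoly k L (((Subobject.pullback ι').obj (B i) : Subobject W') : X.Modules) = 0 := fun i =>
        hPoly_zero hA (IsZero.of_mono ((Subobject.pullback ι').obj (B i)).arrow hW0)
      simp [parE, hz, hPoly_zero hA hW0, StabLib.alpha_zero]
    · exact hssF W' ι' hι' hW' hW0 hpure
  have hcu : ∀ i, Coh.IsCoh (((Subobject.pullback u).obj (B i) : Subobject V) : X.Modules) := fun i =>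
    QCohLib.isCoh_of_iso (pullbackKernel u (B i))
      (QCohLib.isCoh_kernel _ hV (QCohLib.isCoh_cokernel (B i).arrow (hBc i).1 hF).1)
  have hcι : ∀ i, Coh.IsCoh (((Subobject.pullback ι').obj (B i) : Subobject W') : X.Modules) := fun i =>
    QCohLib.isCoh_of_iso (pullbackKernel ι' (B i))
      (QCohLib.isCoh_kernel _ hW' (QCohLib.isCoh_cokernel (B i).arrow (hBc i).1 hF).1)
  have h12 : ∀ i, ∀ᶠ m : ℕ in atTop,
      (HPoly k L ((imageSubobject ((A i).arrow ≫ q) : Subobject V) : X.Modules)).eval (m : ℚ) ≤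
        (HPoly k L (((Subobject.pullback u).obj (B i) : Subobject V) : X.Modules)).eval (m : ℚ) := fun i =>
    hPoly_le_of_mono hA (Subobject.ofLE _ _ (hmap i)) (hadd i).2.2 (hcu i)
  have h23 : ∀ i, ∀ᶠ m : ℕ in atTop,
      (HPoly k L (((Subobject.pullback u).obj (B i) : Subobject V) : X.Modules)).eval (m : ℚ) ≤
        (HPoly k L (((Subobject.pullback ι').obj (B i) : Subobject W') : X.Modules)).eval (m : ℚ) := fun i => by
    obtain ⟨f, _⟩ := exists_mono_pullback u ι' t ht (B i)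
    exact hPoly_le_of_mono hA f (hcu i) (hcι i)
  have hwm' := fun i => (hwm i).le
  have hall : ∀ᶠ m : ℕ in atTop,
      parE w (fun i => HPoly k L (((Subobject.pullback j).obj (A i) : Subobject K) : X.Modules)) m *
            (StabCat.alpha d (HPoly k L E) : ℝ) =
          parE w (fun i => HPoly k L (A i : X.Modules)) m * (StabCat.alpha d (HPoly k L K) : ℝ) ∧
        parE w (fun i => HPoly k L ((imageSubobject ((A i).arrow ≫ q) : Subobject V) : X.Modules)) m =
          parE w (fun i => HPoly k L (((Subobject.pullback u).obj (B i) : Subobject V) : X.Modules)) m ∧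
        parE w (fun i => HPoly k L (((Subobject.pullback u).obj (B i) : Subobject V) : X.Modules)) m =
          parE w (fun i => HPoly k L (((Subobject.pullback ι').obj (B i) : Subobject W') : X.Modules)) m := by
    filter_upwards [hk, hf, parE_mono hw0.le hwm' h12, parE_mono hw0.le hwm' h23] with m h1 h2 h3 h4
    have hs := hsum m
    have hr := hred m
    have hα' : (StabCat.alpha d (HPoly k L E) : ℝ) =
        (StabCat.alpha d (HPoly k L K) : ℝ) + (StabCat.alpha d (HPoly k L V) : ℝ) := by exact_mod_cast hα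
    have hP' : (0 : ℝ) < (StabCat.alpha d (HPoly k L E) : ℝ) := Rat.cast_pos.mpr hP
    have hR' : (0 : ℝ) < (StabCat.alpha d (HPoly k L F) : ℝ) := Rat.cast_pos.mpr hR
    set p := (StabCat.alpha d (HPoly k L E) : ℝ)
    set r := (StabCat.alpha d (HPoly k L F) : ℝ)
    set a := (StabCat.alpha d (HPoly k L K) : ℝ)
    set b := (StabCat.alpha d (HPoly k L V) : ℝ)
    generalize parE w (fun i => HPoly k L (((Subobject.pullback j).obj (A i) : Subobject K) : X.Modules)) m = xK at *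
    generalize parE w (fun i => HPoly k L ((imageSubobject ((A i).arrow ≫ q) : Subobject V) : X.Modules)) m = x1 at *
    generalize parE w (fun i => HPoly k L (((Subobject.pullback u).obj (B i) : Subobject V) : X.Modules)) m = x2 at *
    generalize parE w (fun i => HPoly k L (((Subobject.pullback ι').obj (B i) : Subobject W') : X.Modules)) m = x3 at *
    generalize parE w (fun i => HPoly k L (A i : X.Modules)) m = xE at *
    generalize parE w (fun i => HPoly k L (B i : X.Modules)) m = xF at *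
    have h5 : x3 * p ≤ xE * b := le_of_mul_le_mul_right (calc x3 * p * r = x3 * r * p := by ring
      _ ≤ xF * b * p := mul_le_mul_of_nonneg_right h2 hP'.le
      _ = xF * p * b := by ring
      _ = xE * r * b := by rw [hr]
      _ = xE * b * r := by ring) hR'
    have hsp : xK * p + x1 * p = xE * a + xE * b := by rw [← add_mul, hs, hα', mul_add]
    have h13 := mul_le_mul_of_nonneg_right (h3.trans h4) hP'.le
    have e13 : x1 = x3 := mul_right_cancel₀ hP'.ne' (by linarith)
    exact ⟨by linarith, by linarith, by linarith⟩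
  have e12 := parE_eq_imp hw0 hwm h12 (hall.mono fun m h => h.2.1)
  have e23 := parE_eq_imp hw0 hwm h23 (hall.mono fun m h => h.2.2)
  refine ⟨hall.mono fun m h => h.1, ?_, fun i => eq_of_le_of_hPoly hA (hmap i) (hadd i).2.2 (hcu i) (e12 i)⟩
  have e0 := e23 0
  rw [hB0, Subobject.pullback_top, Subobject.pullback_top, hPoly_top hA hV, hPoly_top hA hW'] at e0
  haveI := isIso_of_hPoly hA t hV hW' e0
  exact isPure_coker_congr u ι' t ht hpure

/-- The kernel and the image of a parabolic homomorphism between semistable ones. -/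
theorem kerIm (d : ℕ) {E F : X.Modules} (hE : Coh.IsCoh E) (hF : Coh.IsCoh F) (hE0 : ¬ IsZero E) (hF0 : ¬ IsZero F)
    (hEp : ShStab.IsPure X E d) (hFp : ShStab.IsPure X F d)
    (𝓔 : ParSh.Str E) (𝓕 : ParSh.Str F)
    (hcE : ∀ j, Coh.IsCoh ((𝓔.pieceX j : Subobject E) : X.Modules))
    (hcF : ∀ j, Coh.IsCoh ((𝓕.pieceX j : Subobject F) : X.Modules))
    (hw : Set.range 𝓕.wt = Set.range 𝓔.wt) (hw0 : 0 < 𝓔.wt 0)
    (P R : ℚ[X]) (hP : ShStab.IsHilbPoly k X L E P) (hR : ShStab.IsHilbPoly k X L F R)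
    (PX : Fin (𝓔.l + 2) → ℚ[X]) (hPX : ∀ j, ShStab.IsHilbPoly k X L ((𝓔.pieceX j : Subobject E) : X.Modules) (PX j))
    (RX : Fin (𝓕.l + 2) → ℚ[X]) (hRX : ∀ j, ShStab.IsHilbPoly k X L ((𝓕.pieceX j : Subobject F) : X.Modules) (RX j))
    (hssE : (∀ (W : X.Modules) (ι : W ⟶ E), Mono ι → Coh.IsCoh W → ¬ IsZero W → ShStab.IsPure X (cokernel ι) d →
        ∀ (Q : ℚ[X]) (QX : Fin (𝓔.l + 2) → ℚ[X]), ShStab.IsHilbPoly k X L W Q →
          (∀ j, ShStab.IsHilbPoly k X L (((𝓔.induced ι).pieceX j : Subobject W) : X.Modules) (QX j)) →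
          ∃ M : ℕ, ∀ m : ℕ, M ≤ m →
            (W4swparbununimod.parPoly (𝓔.induced ι) QX).eval (m : ℝ) * (StabCat.alpha d P : ℝ) ≤
              (W4swparbununimod.parPoly 𝓔 PX).eval (m : ℝ) * (StabCat.alpha d Q : ℝ)))
    (hssF : (∀ (W : X.Modules) (ι : W ⟶ F), Mono ι → Coh.IsCoh W → ¬ IsZero W → ShStab.IsPure X (cokernel ι) d →
        ∀ (Q : ℚ[X]) (QX : Fin (𝓕.l + 2) → ℚ[X]), ShStab.IsHilbPoly k X L W Q →
          (∀ j, ShStab.IsHilbPoly k X L (((𝓕.induced ι).pieceX j : Subobject W) : X.Modules) (QX j)) →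
          ∃ M : ℕ, ∀ m : ℕ, M ≤ m →
            (W4swparbununimod.parPoly (𝓕.induced ι) QX).eval (m : ℝ) * (StabCat.alpha d R : ℝ) ≤
              (W4swparbununimod.parPoly 𝓕 RX).eval (m : ℝ) * (StabCat.alpha d Q : ℝ)))
    (hred : W4swparbununimod.parPoly 𝓔 PX * Polynomial.C (StabCat.alpha d R : ℝ) =
      W4swparbununimod.parPoly 𝓕 RX * Polynomial.C (StabCat.alpha d P : ℝ))
    (f : E ⟶ F) (hf : ParSh.IsParHom 𝓔 𝓕 f)
    {K V : X.Modules} (j : K ⟶ E) [Mono j] (w : j ≫ f = 0) (hex : (ShortComplex.mk j f w).Exact)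
    (q : E ⟶ V) [Epi q] (u : V ⟶ F) [Mono u] (hqu : q ≫ u = f) :
    (∀ (QK : ℚ[X]) (QKX : Fin (𝓔.l + 2) → ℚ[X]), ShStab.IsHilbPoly k X L K QK →
        (∀ j', ShStab.IsHilbPoly k X L (((𝓔.induced j).pieceX j' : Subobject K) : X.Modules) (QKX j')) →
        W4swparbununimod.parPoly (𝓔.induced j) QKX * Polynomial.C (StabCat.alpha d P : ℝ) =
          W4swparbununimod.parPoly 𝓔 PX * Polynomial.C (StabCat.alpha d QK : ℝ)) ∧
    ShStab.IsPure X (cokernel u) d ∧
    (∀ a : ℝ, 0 ≤ a → a ≤ 1 → (𝓔.coinduced q).at a = (𝓕.induced u).at a) := by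
  haveI := CurvLib.isNoetherian k (X := X)
  have hl : 𝓔.l = 𝓕.l := by
    have := congrArg (fun s : Set ℝ => Nat.card s) hw
    simp only [Nat.card_range_of_injective 𝓕.wt_strictMono.injective,
      Nat.card_range_of_injective 𝓔.wt_strictMono.injective, Nat.card_fin] at this
    omega
  let σ : Fin (𝓔.l + 1) → Fin (𝓕.l + 1) := Fin.cast (by rw [hl])
  let σX : Fin (𝓔.l + 2) → Fin (𝓕.l + 2) := Fin.cast (by rw [hl])
  have hwt : ∀ i, 𝓕.wt (σ i) = 𝓔.wt i := by
    have : 𝓕.wt ∘ σ = 𝓔.wt := by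
      refine ((StrictMono.range_inj (𝓕.wt_strictMono.comp (show StrictMono σ from fun a b h => h)) 𝓔.wt_strictMono).mp ?_)
      rw [Set.range_comp, (show Function.Surjective σ from fun b => ⟨Fin.cast (congrArg (· + 1) hl.symm) b, rfl⟩).range_eq, Set.image_univ, hw]
    exact congrFun this
  have hσc : ∀ i : Fin (𝓔.l + 1), σX i.castSucc = (σ i).castSucc := fun i => rfl
  have hσl : σX (Fin.last _) = Fin.last _ := by ext; simp [σX, hl]
  have hwX : (fun i => 𝓕.wtX (σX i)) = 𝓔.wtX := by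
    funext i
    induction i using Fin.lastCases with
    | last => rw [hσl, ParSh.Str.wtX_last, ParSh.Str.wtX_last]
    | cast i => rw [hσc, ParSh.Str.wtX_castSucc, ParSh.Str.wtX_castSucc, hwt]
  have ePF : ∀ m : ℕ, (parPoly 𝓕 RX).eval (m : ℝ) =
      parE 𝓔.wtX (fun i => HPoly k L (𝓕.pieceX (σX i) : X.Modules)) m := fun m => by
    rw [eval_parPoly_hPoly hA 𝓕 hcF hRX, parE_cast hl, ← hwX]
  have ePE := eval_parPoly_hPoly hA 𝓔 hcE hPX
  have eP := hPoly_eq hA hE hP
  have eR := hPoly_eq hA hF hR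
  have hjq : j ≫ q = 0 := by
    rw [← cancel_mono u, Category.assoc, hqu, w, Limits.zero_comp]
  have hS : (ShortComplex.mk j q hjq).ShortExact := by
    let φ : ShortComplex.mk j q hjq ⟶ ShortComplex.mk j f w :=
      { τ₁ := 𝟙 K, τ₂ := 𝟙 E, τ₃ := u, comm₁₂ := by simp, comm₂₃ := by simp [hqu] }
    haveI : Epi φ.τ₁ := inferInstanceAs (Epi (𝟙 K))
    haveI : IsIso φ.τ₂ := inferInstanceAs (IsIso (𝟙 E))
    haveI : Mono φ.τ₃ := inferInstanceAs (Mono u)
    exact { exact := (ShortComplex.exact_iff_of_epi_of_isIso_of_mono φ).mpr hex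
            mono_f := inferInstance
            epi_g := inferInstance }
  have hB0 : 𝓕.pieceX (σX 0) = ⊤ := pieceX_zero 𝓕
  have hfac : ∀ (a : Subobject E) (b : Subobject F), b.Factors (a.arrow ≫ f) →
      imageSubobject (a.arrow ≫ q) ≤ (Subobject.pullback u).obj b := fun a b h =>
    imageSubobject_le _ ((Subobject.isPullback u b).lift (b.factorThru _ h) (a.arrow ≫ q)
      (by rw [Subobject.factorThru_arrow, Category.assoc, hqu])) (IsPullback.lift_snd _ _ _ _)
  have hmap : ∀ i, imageSubobject ((𝓔.pieceX i).arrow ≫ q) ≤ (Subobject.pullback u).obj (𝓕.pieceX (σX i)) := by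
    intro i
    refine hfac _ _ ?_
    induction i using Fin.lastCases with
    | last =>
      have h := hf 1 zero_le_one le_rfl
      rw [𝓔.at_eq_bot fun j => lt_of_le_of_lt (𝓔.wt_strictMono.monotone (Fin.le_last j)) 𝓔.wt_lt_one,
        𝓕.at_eq_bot fun j => lt_of_le_of_lt (𝓕.wt_strictMono.monotone (Fin.le_last j)) 𝓕.wt_lt_one] at h
      rw [hσl, ParSh.Str.pieceX_last, ParSh.Str.pieceX_last]
      exact h
    | cast i =>
      have h := hf (𝓔.wt i) (wt_bounds 𝓔 i).1 (wt_bounds 𝓔 i).2.le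
      rw [𝓔.at_eq_piece i le_rfl fun j hj => 𝓔.wt_strictMono hj] at h
      rw [← hwt, 𝓕.at_eq_piece (σ i) le_rfl fun j hj => 𝓕.wt_strictMono hj] at h
      rw [hσc, ParSh.Str.pieceX_castSucc, ParSh.Str.pieceX_castSucc]
      exact h
  haveI : StrongEpi q := strongEpi_of_epi q
  have main := kerIm_core hA hE hF hE0 hF0 hEp hFp 𝓔.wtX (by rw [wtX_zero]; exact hw0) (wtX_lt 𝓔)
    𝓔.pieceX (pieceX_zero 𝓔) hcE (fun i => 𝓕.pieceX (σX i)) hB0 (fun i => hcF _)
    (fun W ι hι hW hW0 hpW => by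
      haveI := hι
      obtain ⟨M, hM⟩ := hssE W ι hι hW hW0 hpW _ _ (hPoly_spec hA hW)
        (fun i => hPoly_spec hA (isCoh_induced k hE 𝓔 hcE ι hW i))
      refine eventually_atTop.mpr ⟨M, fun m hm => ?_⟩
      have := hM m hm
      rw [eval_induced hA hE 𝓔 hcE ι hW _ (fun i => hPoly_spec hA (isCoh_induced k hE 𝓔 hcE ι hW i)), ePE, ← eP] at this
      exact this)
    (fun W ι hι hW hW0 hpW => by
      haveI := hι
      obtain ⟨M, hM⟩ := hssF W ι hι hW hW0 hpW _ _ (hPoly_spec hA hW)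
        (fun i => hPoly_spec hA (isCoh_induced k hF 𝓕 hcF ι hW i))
      refine eventually_atTop.mpr ⟨M, fun m hm => ?_⟩
      have := hM m hm
      rw [eval_induced hA hF 𝓕 hcF ι hW _ (fun i => hPoly_spec hA (isCoh_induced k hF 𝓕 hcF ι hW i)),
        parE_cast hl, ePF, ← eR] at this
      rw [← hwX]
      rw [← hwX] at this
      exact this)
    (fun m => by
      have := congrArg (Polynomial.eval (m : ℝ)) hred
      simp only [Polynomial.eval_mul, Polynomial.eval_C] at this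
      rw [ePE, ePF, ← eP, ← eR] at this
      exact this)
    j q hjq hS u hmap
  obtain ⟨h1, h2, h3⟩ := main
  refine ⟨fun QK QKX hQK hQKX => eq_of_eventually ?_, h2, fun a _ _ => ?_⟩
  · have hK : Coh.IsCoh K := QCohLib.isCoh_of_iso
      (IsLimit.conePointUniqueUpToIso (kernelIsKernel q) hS.fIsKernel)
      (QCohLib.isCoh_kernel q hE (DevissLib.isCoh_image (q ≫ u) hE hF |> QCohLib.isCoh_of_iso (Abelian.imageIsoImage (q ≫ u) ≪≫ (image.isoStrongEpiMono q u rfl).symm)).1)
    filter_upwards [h1] with m hm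
    simp only [Polynomial.eval_mul, Polynomial.eval_C]
    rw [eval_induced hA hE 𝓔 hcE j hK QKX hQKX, ePE, ← eP, ← hPoly_eq hA hK hQK]
    exact hm
  · have h3c : ∀ i : Fin (𝓔.l + 1), (𝓔.coinduced q).piece i = (𝓕.induced u).piece (σ i) := fun i => by
      have h : imageSubobject ((𝓔.pieceX i.castSucc).arrow ≫ q) =
          (Subobject.pullback u).obj (𝓕.pieceX (σ i).castSucc) := h3 i.castSucc
      rw [ParSh.Str.pieceX_castSucc, ParSh.Str.pieceX_castSucc] at h
      exact h
    have h3b : (𝓔.coinduced q).bot = (𝓕.induced u).bot := by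
      have h : imageSubobject ((𝓔.pieceX (Fin.last _)).arrow ≫ q) =
          (Subobject.pullback u).obj (𝓕.pieceX (σX (Fin.last _))) := h3 (Fin.last _)
      rw [hσl, ParSh.Str.pieceX_last, ParSh.Str.pieceX_last] at h
      exact h
    refine le_antisymm ((𝓔.coinduced q).at_le (fun i hi => ?_) (le_of_eq_of_le h3b ((𝓕.induced u).bot_le_at a)))
      ((𝓕.induced u).at_le (fun i hi => ?_) (le_of_eq_of_le h3b.symm ((𝓔.coinduced q).bot_le_at a)))
    · exact le_of_eq_of_le (h3c i) ((𝓕.induced u).piece_le_at (σ i) (le_of_le_of_eq hi (hwt i).symm))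
    · let i' : Fin (𝓔.l + 1) := Fin.cast (congrArg (· + 1) hl.symm) i
      exact le_of_eq_of_le (h3c i').symm
        ((𝓔.coinduced q).piece_le_at i' (le_of_le_of_eq hi (hwt i')))

end ParHilbLib
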