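import Groth.Prelude.Def_ParBun
import Groth.Prelude.Def_W4swparbununimodPar
import Mathlib.Analysis.Polynomial.Basic
import Mathlib.Analysis.SpecificLimits.Basic

/-!
# Algebra of parabolic polynomials
-/

set_option autoImplicit false
universe v u

open CategoryTheory Polynomial Filter W4swparbununimod Topology

noncomputable section

namespace ParHilbLib

theorem sum_tele {M : Type*} [AddCommGroup M] {n : ℕ} (f : Fin (n + 1) → M) :
    ∑ j : Fin n, (f j.succ - f j.castSucc) = f (Fin.last n) - f 0 := by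
  induction n with
  | zero =>
    simp only [Finset.univ_eq_empty, Finset.sum_empty]
    exact (sub_self _).symm
  | succ n ih =>
    rw [Fin.sum_univ_castSucc]
    simp only [Fin.succ_castSucc]
    rw [ih fun i => f i.castSucc]
    simp [Fin.succ_last]

variable {C : Type u} [Category.{v} C] {E : C}

/-- The parabolic polynomial through the polynomials of the quotients. -/
theorem parPoly_eq (𝓔 : ParSh.Str E) (PX : Fin (𝓔.l + 2) → ℚ[X]) :
    parPoly 𝓔 PX = rpoly (PX 0) - ∑ j : Fin (𝓔.l + 1),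
      Polynomial.C (𝓔.wtX j.succ - 𝓔.wtX j.castSucc) * rpoly (PX 0 - PX j.succ) := by
  have key := sum_tele fun j : Fin (𝓔.l + 2) => Polynomial.C (𝓔.wtX j) * rpoly (PX 0 - PX j)
  have hsum : ∀ j : Fin (𝓔.l + 1),
      Polynomial.C (𝓔.wtX j.succ) * rpoly (PX 0 - PX j.succ) -
          Polynomial.C (𝓔.wtX j.castSucc) * rpoly (PX 0 - PX j.castSucc) =
        Polynomial.C (𝓔.wtX j.succ - 𝓔.wtX j.castSucc) * rpoly (PX 0 - PX j.succ) +
          Polynomial.C (𝓔.wt j) * (rpoly (PX j.castSucc) - rpoly (PX j.succ)) := fun j => by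
    simp only [rpoly, Polynomial.map_sub, map_sub, ParSh.Str.wtX_castSucc]
    ring
  rw [Finset.sum_congr rfl fun j _ => hsum j, Finset.sum_add_distrib] at key
  simp only [ParSh.Str.wtX_last, map_one, one_mul, rpoly, Polynomial.map_sub, sub_self, mul_zero,
    sub_zero] at key
  rw [parPoly, eq_sub_iff_add_eq]
  simp only [rpoly, Polynomial.map_sub] at key ⊢
  simp only [Polynomial.map_zero, mul_zero, sub_zero] at key
  linear_combination key

theorem coeff_rpoly (P : ℚ[X]) (n : ℕ) : (rpoly P).coeff n = (P.coeff n : ℝ) := by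
  simp [rpoly]

theorem eval_rpoly (P : ℚ[X]) (m : ℕ) : (rpoly P).eval (m : ℝ) = ((P.eval (m : ℚ) : ℚ) : ℝ) := by
  rw [rpoly, Polynomial.eval_natCast_map]
  simp

theorem eval_parPoly (𝓔 : ParSh.Str E) (PX : Fin (𝓔.l + 2) → ℚ[X]) (m : ℕ) :
    (parPoly 𝓔 PX).eval (m : ℝ) =
      (((PX (Fin.last (𝓔.l + 1))).eval (m : ℚ) : ℚ) : ℝ) +
        ∑ j : Fin (𝓔.l + 1), 𝓔.wt j *
          ((((PX j.castSucc).eval (m : ℚ) : ℚ) : ℝ) - (((PX j.succ).eval (m : ℚ) : ℚ) : ℝ)) := by
  simp only [parPoly, Polynomial.eval_add, Polynomial.eval_finsetSum, Polynomial.eval_mul,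
    Polynomial.eval_C, Polynomial.eval_sub, eval_rpoly]

theorem coeff_parPoly (𝓔 : ParSh.Str E) (PX : Fin (𝓔.l + 2) → ℚ[X]) (n : ℕ) :
    (parPoly 𝓔 PX).coeff n = ((PX (Fin.last (𝓔.l + 1))).coeff n : ℝ) +
      ∑ j : Fin (𝓔.l + 1), 𝓔.wt j * (((PX j.castSucc).coeff n : ℝ) - ((PX j.succ).coeff n : ℝ)) := by
  simp only [parPoly, Polynomial.coeff_add, Polynomial.finsetSum_coeff, Polynomial.coeff_C_mul,
    Polynomial.coeff_sub, coeff_rpoly]

/-- The leading behaviour along the natural numbers. -/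
theorem tendsto_eval_div_pow {R : ℝ[X]} {e : ℕ} (h : R.natDegree ≤ e) :
    Tendsto (fun n : ℕ => R.eval (n : ℝ) / (n : ℝ) ^ e) atTop (𝓝 (R.coeff e)) := by
  simp only [Polynomial.eval_eq_sum_range' (Nat.lt_succ_of_le h), div_eq_mul_inv, Finset.sum_mul]
  have hlim : ∀ i ∈ Finset.range (e + 1),
      Tendsto (fun n : ℕ => R.coeff i * (n : ℝ) ^ i / (n : ℝ) ^ e) atTop
        (𝓝 (if i = e then R.coeff e else 0)) := by
    intro i hi
    rcases eq_or_lt_of_le (Nat.le_of_lt_succ (Finset.mem_range.mp hi)) with rfl | hie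
    · rw [if_pos rfl]
      refine tendsto_const_nhds.congr' ?_
      filter_upwards [eventually_ne_atTop 0] with n hn
      rw [mul_div_assoc, div_self (pow_ne_zero _ (Nat.cast_ne_zero.mpr hn)), mul_one]
    · rw [if_neg hie.ne]
      have := ((tendsto_pow_div_pow_atTop_zero (𝕜 := ℝ) hie).comp
        (tendsto_natCast_atTop_atTop (R := ℝ))).const_mul (R.coeff i)
      simpa [Function.comp_def, mul_div_assoc] using this
  have := tendsto_finsetSum (Finset.range (e + 1)) hlim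
  simpa [div_eq_mul_inv] using this

theorem coeff_nonneg {R : ℝ[X]} {e : ℕ} (h : R.natDegree ≤ e)
    (hev : ∀ᶠ n : ℕ in atTop, 0 ≤ R.eval (n : ℝ)) : 0 ≤ R.coeff e :=
  ge_of_tendsto (tendsto_eval_div_pow h) (hev.mono fun n hn => div_nonneg hn (pow_nonneg n.cast_nonneg _))

theorem eventually_pos {R : ℝ[X]} {e : ℕ} (h : R.natDegree ≤ e) (hc : 0 < R.coeff e) :
    ∀ᶠ n : ℕ in atTop, 0 < R.eval (n : ℝ) := by
  filter_upwards [(tendsto_eval_div_pow h).eventually_const_lt hc, eventually_ne_atTop 0] with n hn hn0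
  have : (0 : ℝ) < (n : ℝ) ^ e := pow_pos (by exact_mod_cast Nat.pos_of_ne_zero hn0) e
  exact (div_pos_iff_of_pos_right this).mp hn

theorem tendsto_rat {P : ℚ[X]} {e : ℕ} (h : P.natDegree ≤ e) :
    Tendsto (fun n : ℕ => ((P.eval (n : ℚ) : ℚ) : ℝ) / (n : ℝ) ^ e) atTop (𝓝 (P.coeff e : ℝ)) := by
  rw [← coeff_rpoly]
  simp only [← eval_rpoly]
  exact tendsto_eval_div_pow ((Polynomial.natDegree_map_le).trans h)

end ParHilbLib
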