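import Groth.Agent.ParHilbLib.Basic
import Groth.Agent.ParHilbLib.Poly

/-!
# Consequences for parabolic Hilbert polynomials
-/

set_option autoImplicit false
set_option linter.style.haveILetI false
set_option backward.isDefEq.respectTransparency false
set_option maxHeartbeats 800000
universe u

open CategoryTheory CategoryTheory.Limits AlgebraicGeometry Polynomial W4swparbununimod
open StabLib HilbPolyLib DevissLib Filter

noncomputable section

namespace ParHilbLib

variable {X : Scheme.{u}} {k : Type u} [Field k] [X.Over (Spec (CommRingCat.of k))]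
  {L : X.Modules} {E : X.Modules}

theorem parHilb_eq_eval (𝓔 : ParSh.Str E) {PX : Fin (𝓔.l + 2) → ℚ[X]}
    (hPX : ∀ j, ShStab.IsHilbPoly k X L ((𝓔.pieceX j : Subobject E) : X.Modules) (PX j)) (m : ℕ) :
    𝓔.parHilb k X L m = (parPoly 𝓔 PX).eval (m : ℝ) := by
  rw [eval_parPoly, ParSh.Str.parHilb, ParSh.Str.parSum]
  simp only [← hPX _ m, ParSh.Str.pieceX_last, ParSh.Str.pieceX_castSucc]
  push_cast
  rfl

variable [IsProper (X ↘ Spec (CommRingCat.of k))] (hA : CohB1.IsAmple L)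

include hA in
/-- The polynomial of a piece is that of the sheaf minus that of the quotient. -/
theorem piece_eq_sub (hE : Coh.IsCoh E) {𝓔 : ParSh.Str E}
    (hcoh : ∀ j, Coh.IsCoh ((𝓔.pieceX j : Subobject E) : X.Modules))
    {P : ℚ[X]} (hP : ShStab.IsHilbPoly k X L E P) {PX H : Fin (𝓔.l + 2) → ℚ[X]}
    (hPX : ∀ j, ShStab.IsHilbPoly k X L ((𝓔.pieceX j : Subobject E) : X.Modules) (PX j))
    (hH : ∀ j, ShStab.IsHilbPoly k X L (cokernel (𝓔.pieceX j).arrow) (H j)) :
    PX 0 = P ∧ ∀ j, P - PX j = H j := by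
  refine ⟨?_, fun j => by rw [isHilbPoly_of_cokernel hA _ (hcoh j) hE (hPX j) hP (hH j), add_sub_cancel_left]⟩
  have h0 : 𝓔.pieceX 0 = ⊤ := by
    rw [← Fin.castSucc_zero, ParSh.Str.pieceX_castSucc, 𝓔.piece_zero]
  haveI : IsIso (𝓔.pieceX 0).arrow := (Subobject.isIso_arrow_iff_eq_top _).mpr h0
  exact isHilbPoly_unique (isHilbPoly_congr (asIso (𝓔.pieceX 0).arrow) (hPX 0)) hP

include hA in
theorem coeff_parPoly_high (I : X.IdealSheafData) (hE : Coh.IsCoh E) {𝓔 : ParSh.Str E} (h : 𝓔.Along I)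
    (hcoh : ∀ j, Coh.IsCoh ((𝓔.pieceX j : Subobject E) : X.Modules)) {d : ℕ}
    (hsupp : topologicalKrullDim ↥(CohB1.support E ∩ (I.support : Set X)) < (d : WithBot ℕ∞))
    {P : ℚ[X]} (hP : ShStab.IsHilbPoly k X L E P) {PX : Fin (𝓔.l + 2) → ℚ[X]}
    (hPX : ∀ j, ShStab.IsHilbPoly k X L ((𝓔.pieceX j : Subobject E) : X.Modules) (PX j))
    {n : ℕ} (hn : d ≤ n) : (parPoly 𝓔 PX).coeff n = (P.coeff n : ℝ) := by
  rw [coeff_parPoly]
  simp only [(piece_data hA I hE h hcoh hsupp hP hPX).1 _ n hn, sub_self, mul_zero, Finset.sum_const_zero,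
    add_zero]

include hA in
theorem coeff_parPoly_pred (I : X.IdealSheafData) (hE : Coh.IsCoh E) {𝓔 : ParSh.Str E} (h : 𝓔.Along I)
    (hcoh : ∀ j, Coh.IsCoh ((𝓔.pieceX j : Subobject E) : X.Modules)) {d : ℕ}
    (hsupp : topologicalKrullDim ↥(CohB1.support E ∩ (I.support : Set X)) < (d : WithBot ℕ∞))
    {P : ℚ[X]} (hP : ShStab.IsHilbPoly k X L E P) {PX : Fin (𝓔.l + 2) → ℚ[X]}
    (hPX : ∀ j, ShStab.IsHilbPoly k X L ((𝓔.pieceX j : Subobject E) : X.Modules) (PX j)) :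
    ((PX (Fin.last (𝓔.l + 1))).coeff (d - 1) : ℝ) ≤ (parPoly 𝓔 PX).coeff (d - 1) ∧
      (parPoly 𝓔 PX).coeff (d - 1) ≤ (P.coeff (d - 1) : ℝ) := by
  obtain ⟨-, hdeg, h0⟩ := piece_data hA I hE h hcoh hsupp hP hPX
  have hstep : ∀ j : Fin (𝓔.l + 1), 0 ≤ ((PX j.castSucc).coeff (d - 1) : ℝ) - (PX j.succ).coeff (d - 1) := by
    intro j
    have hn := nn_of_le hA (pieceX_succ_le 𝓔 j) (hcoh _) (hcoh _) (hPX j.succ) (hPX j.castSucc)
    have hd' : (PX j.castSucc - PX j.succ).natDegree ≤ d - 1 := by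
      rw [show PX j.castSucc - PX j.succ = (P - PX j.succ) - (P - PX j.castSucc) by ring]
      exact (Polynomial.natDegree_sub_le _ _).trans (max_le (hdeg _) (hdeg _))
    have := StabLib.coeff_nonneg hd' hn
    rw [Polynomial.coeff_sub] at this
    exact_mod_cast this
  rw [coeff_parPoly]
  refine ⟨le_add_of_nonneg_right (Finset.sum_nonneg fun j _ => mul_nonneg (wt_bounds 𝓔 j).1 (hstep j)), ?_⟩
  have key := sum_tele fun j : Fin (𝓔.l + 2) => -((PX j).coeff (d - 1) : ℝ)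
  simp only [neg_sub_neg, h0] at key
  have : (∑ j : Fin (𝓔.l + 1), 𝓔.wt j * (((PX j.castSucc).coeff (d - 1) : ℝ) - (PX j.succ).coeff (d - 1))) ≤
      ∑ j : Fin (𝓔.l + 1), (((PX j.castSucc).coeff (d - 1) : ℝ) - (PX j.succ).coeff (d - 1)) :=
    Finset.sum_le_sum fun j _ => mul_le_of_le_one_left (hstep j) (wt_bounds 𝓔 j).2.le
  linarith

theorem induced_pieceX (𝓔 : ParSh.Str E) {W : X.Modules} (ι : W ⟶ E) (j : Fin (𝓔.l + 2)) :
    (𝓔.induced ι).pieceX j = (Subobject.pullback ι).obj (𝓔.pieceX j) := by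
  induction j using Fin.lastCases with
  | last => exact ((𝓔.induced ι).pieceX_last).trans (congrArg _ 𝓔.pieceX_last.symm)
  | cast i => exact ((𝓔.induced ι).pieceX_castSucc i).trans (congrArg _ (𝓔.pieceX_castSucc i).symm)

variable (k) in
include k in
theorem isCoh_induced (hE : Coh.IsCoh E) (𝓔 : ParSh.Str E)
    (hcoh : ∀ j, Coh.IsCoh ((𝓔.pieceX j : Subobject E) : X.Modules))
    {W : X.Modules} (ι : W ⟶ E) [Mono ι] (hW : Coh.IsCoh W) (j : Fin (𝓔.l + 2)) :
    Coh.IsCoh (((𝓔.induced ι).pieceX j : Subobject W) : X.Modules) := by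
  haveI := CurvLib.isNoetherian k (X := X)
  rw [induced_pieceX]
  let a := 𝓔.pieceX j
  have sq := Subobject.isPullback ι a
  let g := ι ≫ cokernel.π a.arrow
  have hk : ((Subobject.pullback ι).obj a).arrow ≫ g = 0 := by
    rw [← Category.assoc, ← sq.w, Category.assoc, cokernel.condition, Limits.comp_zero]
  let e : kernel g ≅ (((Subobject.pullback ι).obj a : Subobject W) : X.Modules) :=
    { hom := sq.lift (Abelian.monoLift a.arrow (kernel.ι g ≫ ι) (by rw [Category.assoc, kernel.condition]))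
        (kernel.ι g) (Abelian.monoLift_comp _ _ _)
      inv := kernel.lift g _ hk
      hom_inv_id := by
        apply (cancel_mono (kernel.ι g)).mp
        rw [Category.assoc, kernel.lift_ι, sq.lift_snd, Category.id_comp]
      inv_hom_id := by
        apply (cancel_mono ((Subobject.pullback ι).obj a).arrow).mp
        rw [Category.assoc, sq.lift_snd, kernel.lift_ι, Category.id_comp] }
  exact QCohLib.isCoh_of_iso e (QCohLib.isCoh_kernel g hW (QCohLib.isCoh_cokernel a.arrow (hcoh j).1 hE).1)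

theorem support_coker_induced (I : X.IdealSheafData) {𝓔 : ParSh.Str E} (h : 𝓔.Along I)
    {W : X.Modules} (ι : W ⟶ E) [Mono ι] (j : Fin (𝓔.l + 2)) :
    CohB1.support (cokernel ((𝓔.induced ι).pieceX j).arrow) ⊆ CohB1.support E ∩ (I.support : Set X) := by
  rw [induced_pieceX]
  exact (support_coker_pullback ι _).trans (support_coker_piece I h j)

include hA in
theorem induced_data (I : X.IdealSheafData) (hE : Coh.IsCoh E) {𝓔 : ParSh.Str E} (h : 𝓔.Along I)
    (hcoh : ∀ j, Coh.IsCoh ((𝓔.pieceX j : Subobject E) : X.Modules)) {d : ℕ}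
    (hsupp : topologicalKrullDim ↥(CohB1.support E ∩ (I.support : Set X)) < (d : WithBot ℕ∞))
    {W : X.Modules} (ι : W ⟶ E) [Mono ι] (hW : Coh.IsCoh W) {Q : ℚ[X]} (hQ : ShStab.IsHilbPoly k X L W Q)
    {QX : Fin (𝓔.l + 2) → ℚ[X]}
    (hQX : ∀ j, ShStab.IsHilbPoly k X L (((𝓔.induced ι).pieceX j : Subobject W) : X.Modules) (QX j)) :
    (∀ j n, d ≤ n → (QX j).coeff n = Q.coeff n) ∧
      ∀ n, d ≤ n → (parPoly (𝓔.induced ι) QX).coeff n = (Q.coeff n : ℝ) := by
  have key : ∀ j n, d ≤ n → (QX j).coeff n = Q.coeff n := by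
    intro j n hn
    have hc := QCohLib.isCoh_cokernel ((𝓔.induced ι).pieceX j).arrow (isCoh_induced k hE 𝓔 hcoh ι hW j).1 hW
    rw [isHilbPoly_of_cokernel hA _ (isCoh_induced k hE 𝓔 hcoh ι hW j) hW (hQX j) hQ (hPoly_spec hA hc),
      Polynomial.coeff_add, coeff_eq_zero hA hc (hPoly_spec hA hc)
        ((dim_mono (support_coker_induced I h ι j)).trans_lt hsupp) hn, add_zero]
  refine ⟨key, fun n hn => ?_⟩
  rw [coeff_parPoly]
  have e1 : ∀ j : Fin (𝓔.l + 1),
      (𝓔.induced ι).wt j * (((QX j.castSucc).coeff n : ℝ) - ((QX j.succ).coeff n : ℝ)) = 0 := fun j => by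
    rw [key _ n hn, key _ n hn, sub_self, mul_zero]
  rw [show (∑ j : Fin ((𝓔.induced ι).l + 1),
      (𝓔.induced ι).wt j * (((QX j.castSucc).coeff n : ℝ) - ((QX j.succ).coeff n : ℝ))) = 0 from
    Finset.sum_eq_zero fun j _ => e1 j, add_zero]
  exact congrArg _ (key _ n hn)

end ParHilbLib
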