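import Groth.Agent.ParHilbLib.Rows

/-!
# The first modified polynomial under semistable flag quotients
-/

set_option autoImplicit false
set_option linter.style.haveILetI false
set_option backward.isDefEq.respectTransparency false
set_option maxHeartbeats 800000
universe u

open CategoryTheory CategoryTheory.Limits AlgebraicGeometry Polynomial W4swparbununimod
open StabLib HilbPolyLib DevissLib Filter

noncomputable section

namespace ParHilbLib

variable {X : Scheme.{u}} {E W : X.Modules}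

/-- A pulled back subobject is the kernel of the map to the quotient. -/
def pullbackKernel (ι : W ⟶ E) (a : Subobject E) :
    kernel (ι ≫ cokernel.π a.arrow) ≅ (((Subobject.pullback ι).obj a : Subobject W) : X.Modules) where
  hom := (Subobject.isPullback ι a).lift
    (Abelian.monoLift a.arrow (kernel.ι (ι ≫ cokernel.π a.arrow) ≫ ι)
      (by rw [Category.assoc, kernel.condition]))
    (kernel.ι (ι ≫ cokernel.π a.arrow)) (Abelian.monoLift_comp _ _ _)
  inv := kernel.lift _ ((Subobject.pullback ι).obj a).arrow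
    (by rw [← Category.assoc, ← (Subobject.isPullback ι a).w, Category.assoc, cokernel.condition, Limits.comp_zero])
  hom_inv_id := by
    apply (cancel_mono (kernel.ι _)).mp
    rw [Category.assoc, kernel.lift_ι, IsPullback.lift_snd, Category.id_comp]
  inv_hom_id := by
    apply (cancel_mono ((Subobject.pullback ι).obj a).arrow).mp
    rw [Category.assoc, IsPullback.lift_snd, kernel.lift_ι, Category.id_comp]

theorem exists_mono_coker (ι : W ⟶ E) (a : Subobject E) :
    ∃ t : cokernel ((Subobject.pullback ι).obj a).arrow ⟶ cokernel a.arrow, Mono t := by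
  let g := ι ≫ cokernel.π a.arrow
  have hw : ((Subobject.pullback ι).obj a).arrow ≫ g = 0 := by
    rw [← Category.assoc, ← (Subobject.isPullback ι a).w, Category.assoc, cokernel.condition, Limits.comp_zero]
  have hex : (ShortComplex.mk _ g hw).Exact := by
    refine ShortComplex.exact_of_f_is_kernel _ ?_
    refine IsLimit.ofIsoLimit (kernelIsKernel g) (Fork.ext (pullbackKernel ι a) ?_)
    simp only [pullbackKernel, g]
    exact IsPullback.lift_snd _ _ _ _
  exact ⟨cokernel.desc _ g hw, hex.mono_cokernelDesc⟩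

variable {k : Type u} [Field k] [X.Over (Spec (CommRingCat.of k))]
  [IsProper (X ↘ Spec (CommRingCat.of k))] {L : X.Modules} (hA : CohB1.IsAmple L)

include hA in
theorem hPoly_le_of_mono {A B : X.Modules} (f : A ⟶ B) [Mono f] (h₁ : Coh.IsCoh A) (h₂ : Coh.IsCoh B) :
    ∀ᶠ m : ℕ in atTop, (HPoly k L A).eval (m : ℚ) ≤ (HPoly k L B).eval (m : ℚ) := by
  have hc := QCohLib.isCoh_cokernel f h₁.1 h₂
  have e := hPoly_coker (k := k) hA f h₁ h₂
  filter_upwards [StabLib.eventually_nonneg (hPoly_nn (k := k) hA hc)] with m hm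
  rw [e, Polynomial.eval_add]
  linarith

theorem eval_parPoly' {C : Type*} [Category C] {T : C} (𝓕 : ParSh.Str T) (R : Fin (𝓕.l + 2) → ℚ[X]) (m : ℕ) :
    (parPoly 𝓕 R).eval (m : ℝ) = 𝓕.wtX 0 * (((R 0).eval (m : ℚ) : ℚ) : ℝ) +
      ∑ i : Fin (𝓕.l + 1), (𝓕.wtX i.succ - 𝓕.wtX i.castSucc) * (((R i.succ).eval (m : ℚ) : ℚ) : ℝ) := by
  rw [parPoly_eq]
  simp only [Polynomial.eval_sub, Polynomial.eval_finsetSum, Polynomial.eval_mul, Polynomial.eval_C,
    eval_rpoly, Rat.cast_sub, mul_sub, Finset.sum_sub_distrib, ← Finset.sum_mul]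
  rw [show (∑ i : Fin (𝓕.l + 1), 𝓕.wtX i.succ) - ∑ i : Fin (𝓕.l + 1), 𝓕.wtX i.castSucc = 1 - 𝓕.wtX 0 by
    rw [← Finset.sum_sub_distrib, sum_tele 𝓕.wtX, ParSh.Str.wtX_last]]
  ring

include hA in
/-- The structure on a smaller subsheaf has smaller parabolic polynomial. -/
theorem parPoly_induced_mono (hE : Coh.IsCoh E) (𝓔 : ParSh.Str E)
    (hcoh : ∀ j, Coh.IsCoh ((𝓔.pieceX j : Subobject E) : X.Modules))
    {W' : X.Modules} (ι : W ⟶ E) [Mono ι] (ι' : W' ⟶ E) [Mono ι'] (t : W ⟶ W') (ht : t ≫ ι' = ι)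
    (hW : Coh.IsCoh W) (hW' : Coh.IsCoh W')
    {QX QX' : Fin (𝓔.l + 2) → ℚ[X]}
    (hQX : ∀ j, ShStab.IsHilbPoly k X L (((𝓔.induced ι).pieceX j : Subobject W) : X.Modules) (QX j))
    (hQX' : ∀ j, ShStab.IsHilbPoly k X L (((𝓔.induced ι').pieceX j : Subobject W') : X.Modules) (QX' j)) :
    ∀ᶠ m : ℕ in atTop, (parPoly (𝓔.induced ι) QX).eval (m : ℝ) ≤ (parPoly (𝓔.induced ι') QX').eval (m : ℝ) := by
  have hev : ∀ j, ∀ᶠ m : ℕ in atTop, (QX j).eval (m : ℚ) ≤ (QX' j).eval (m : ℚ) := fun j => by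
    have h1 := hQX j
    have h2 := hQX' j
    have c1 := isCoh_induced k hE 𝓔 hcoh ι hW j
    have c2 := isCoh_induced k hE 𝓔 hcoh ι' hW' j
    rw [induced_pieceX] at h1 h2 c1 c2
    let a := 𝓔.pieceX j
    let f := (Subobject.isPullback ι' a).lift (Subobject.pullbackπ ι a)
      (((Subobject.pullback ι).obj a).arrow ≫ t)
      (by rw [(Subobject.isPullback ι a).w, Category.assoc, ht])
    haveI : Mono t := mono_of_mono_fac ht
    haveI : Mono f := by
      haveI : Mono (f ≫ ((Subobject.pullback ι').obj a).arrow) := by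
        rw [IsPullback.lift_snd]; infer_instance
      exact mono_of_mono f ((Subobject.pullback ι').obj a).arrow
    rw [← hPoly_eq hA c1 h1, ← hPoly_eq hA c2 h2]
    exact hPoly_le_of_mono hA f c1 c2
  filter_upwards [eventually_all.mpr hev] with m hm
  have e : ∀ (V : X.Modules) (j : V ⟶ E) (R : Fin (𝓔.l + 2) → ℚ[X]),
      (parPoly (𝓔.induced j) R).eval (m : ℝ) = 𝓔.wtX 0 * (((R 0).eval (m : ℚ) : ℚ) : ℝ) +
        ∑ i : Fin (𝓔.l + 1), (𝓔.wtX i.succ - 𝓔.wtX i.castSucc) * (((R i.succ).eval (m : ℚ) : ℚ) : ℝ) :=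
    fun V j R => eval_parPoly' (𝓔.induced j) R m
  rw [e W ι QX, e W' ι' QX']
  have h0 : (0 : ℝ) ≤ 𝓔.wtX 0 := by
    rw [← Fin.castSucc_zero, ParSh.Str.wtX_castSucc]; exact 𝓔.wt_nonneg
  refine add_le_add (mul_le_mul_of_nonneg_left (Rat.cast_le.mpr (hm 0)) h0) (Finset.sum_le_sum fun i _ => ?_)
  exact mul_le_mul_of_nonneg_left (Rat.cast_le.mpr (hm i.succ)) (sub_nonneg.mpr (wtX_step 𝓔 i))

include hA in
/-- With semistable flag quotients the first modified polynomial is at most the parabolic one. -/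
theorem parPolyOne_le (hE : Coh.IsCoh E) (𝓔 : ParSh.Str E)
    (hcoh : ∀ j, Coh.IsCoh ((𝓔.pieceX j : Subobject E) : X.Modules)) {d : ℕ}
    {H : Fin (𝓔.l + 2) → ℚ[X]} (hH : ∀ j, ShStab.IsHilbPoly k X L (cokernel (𝓔.pieceX j).arrow) (H j))
    (hHa : ∀ j : Fin (𝓔.l + 1), StabCat.alpha (d - 1) (H j.succ) ≠ 0)
    (hq : ∀ j : Fin (𝓔.l + 1), ShStab.IsSemistable k X L (cokernel (𝓔.pieceX j.succ).arrow) (d - 1))
    (ι : W ⟶ E) [Mono ι] (hW : Coh.IsCoh W) {Q : ℚ[X]} (hQ : ShStab.IsHilbPoly k X L W Q)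
    {QX QH : Fin (𝓔.l + 2) → ℚ[X]}
    (hQX : ∀ j, ShStab.IsHilbPoly k X L (((𝓔.induced ι).pieceX j : Subobject W) : X.Modules) (QX j))
    (hQH : ∀ j, ShStab.IsHilbPoly k X L (cokernel ((𝓔.induced ι).pieceX j).arrow) (QH j)) :
    ∀ᶠ m : ℕ in atTop, (parPolyOne 𝓔 d Q QH H).eval (m : ℝ) ≤ (parPoly (𝓔.induced ι) QX).eval (m : ℝ) := by
  have hcW := isCoh_induced k hE 𝓔 hcoh ι hW
  obtain ⟨h0, hsub⟩ := piece_eq_sub (𝓔 := 𝓔.induced ι) hA hW hcW hQ hQX hQH
  have hev : ∀ j : Fin (𝓔.l + 1), ∀ᶠ m : ℕ in atTop, (QH j.succ).eval (m : ℚ) ≤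
      StabCat.alpha (d - 1) (QH j.succ) / StabCat.alpha (d - 1) (H j.succ) * (H j.succ).eval (m : ℚ) := by
    intro j
    have hc := QCohLib.isCoh_cokernel ((𝓔.induced ι).pieceX j.succ).arrow (hcW j.succ).1 hW
    have hp := hQH j.succ
    rw [induced_pieceX] at hc hp
    obtain ⟨t, _⟩ := exists_mono_coker ι (𝓔.pieceX j.succ)
    have hn := sub_le (k := k) hA (hq j) t hc
    rw [hPoly_eq hA hc hp, hPoly_eq hA (hq j).1 (hH j.succ)] at hn
    have hpos : 0 < StabCat.alpha (d - 1) (H j.succ) := by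
      rw [← hPoly_eq (k := k) hA (hq j).1 (hH j.succ)]
      exact alpha_pos_of_pure hA (hq j).2.2.1 (𝟙 _) (hq j).1 (hq j).2.1
    filter_upwards [StabLib.eventually_nonneg hn] with m hm
    rw [div_mul_eq_mul_div, le_div_iff₀ hpos]
    simp only [dd, Polynomial.eval_sub, Polynomial.eval_smul, smul_eq_mul] at hm
    linarith
  filter_upwards [eventually_all.mpr hev] with m hm
  refine le_of_le_of_eq ?_ (congrArg (Polynomial.eval (m : ℝ)) (parPoly_eq (𝓔.induced ι) QX)).symm
  simp only [parPolyOne, Polynomial.eval_sub, Polynomial.eval_finsetSum, Polynomial.eval_mul,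
    Polynomial.eval_C, eval_rpoly]
  refine sub_le_sub (le_of_eq (congrArg (fun R => ((Polynomial.eval (m : ℚ) R : ℚ) : ℝ)) h0).symm) ?_
  refine Finset.sum_le_sum fun j _ => ?_
  have e : (QX 0 - QX j.succ).eval (m : ℚ) = (QH j.succ).eval (m : ℚ) :=
    congrArg (Polynomial.eval (m : ℚ)) ((congrArg (· - QX j.succ) h0).trans (hsub j.succ))
  rw [Polynomial.eval_sub] at e
  rw [mul_assoc]
  refine mul_le_mul_of_nonneg_left ?_ (sub_nonneg.mpr (wtX_step 𝓔 j))
  refine le_trans (le_of_eq (congrArg (fun r : ℚ => (r : ℝ)) e)) ?_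
  rw [← Rat.cast_mul]
  exact Rat.cast_le.mpr (hm j)

include hA in
/-- Saturation, with the inclusion. -/
theorem exists_sat [IsNoetherian X] (hE : Coh.IsCoh E) {d : ℕ}
    (hd : topologicalKrullDim (CohB1.support E) ≤ (d : ℕ)) (ι : W ⟶ E) [Mono ι] (hW : Coh.IsCoh W) :
    ∃ (W' : X.Modules) (ι' : W' ⟶ E) (t : W ⟶ W'), Mono ι' ∧ t ≫ ι' = ι ∧ Coh.IsCoh W' ∧
      StabCat.alpha d (HPoly k L W') = StabCat.alpha d (HPoly k L W) ∧ (¬ IsZero W → ¬ IsZero W') ∧
      ShStab.IsPure X (cokernel ι') d := by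
  letI := cLattice hE
  letI := cBounded hE
  haveI := cWf hE
  let V := cVal (k := k) hA hE hd
  let c₀ : CSub E := ⟨Subobject.mk ι, QCohLib.isCoh_of_iso (Subobject.underlyingIso ι).symm hW⟩
  have e₀ : HPoly k L (c₀.1 : X.Modules) = HPoly k L W := hPoly_congr hA c₀.2 (Subobject.underlyingIso ι)
  obtain ⟨c, ⟨hc₀c, hc⟩, hmax⟩ := (wellFounded_gt (α := CSub E)).has_min {c | c₀ ≤ c ∧ V.al c₀ c = 0}
    ⟨c₀, le_rfl, by rw [Val.al, Val.q_self, alpha_zero]⟩
  have hle₀ : Subobject.mk ι ≤ c.1 := hc₀c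
  refine ⟨(c.1 : X.Modules), c.1.arrow, (Subobject.underlyingIso ι).inv ≫ Subobject.ofLE _ _ hle₀,
    inferInstance, ?_, c.2, ?_, fun hW0 hz => ?_, ?_⟩
  · rw [Category.assoc, Subobject.ofLE_arrow, Subobject.underlyingIso_arrow]
  · rw [Val.al_eq, sub_eq_zero] at hc
    exact hc.trans (congrArg _ e₀)
  · haveI : Mono ((Subobject.underlyingIso ι).inv ≫ Subobject.ofLE (Subobject.mk ι) c.1 hle₀) := mono_comp _ _
    exact hW0 (IsZero.of_mono ((Subobject.underlyingIso ι).inv ≫ Subobject.ofLE (Subobject.mk ι) c.1 hle₀) hz)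
  intro G κ hκ hG hG0
  by_cases htop : c.1 = ⊤
  · haveI : IsIso c.1.arrow := (Subobject.isIso_arrow_iff_eq_top _).mpr htop
    exact absurd (IsZero.of_mono κ (isZero_cokernel_of_epi c.1.arrow)) hG0
  have hle : c.1 ≤ ((⊤ : CSub E)).1 := le_top (a := c.1)
  haveI : IsIso (⊤ : Subobject E).arrow := inferInstance
  have e : cFac c ⊤ hle ≅ cokernel c.1.arrow :=
    cokernel.mapIso _ _ (Iso.refl _) (asIso (⊤ : Subobject E).arrow)
      (by simp only [Iso.refl_hom, Category.id_comp, asIso_hom]; exact Subobject.ofLE_arrow hle)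
  obtain ⟨b, hcb, -, eG, hlt, -⟩ := exists_between (k := k) hA hE hd hle (κ ≫ e.inv) hG
  refine (hPoly_alpha_pos_iff (k := k) hA hG
    ((dim_mono (support_mono (κ ≫ e.inv))).trans (dim_cFac hd hle))).mp ?_
  rw [eG]
  refine lt_of_le_of_ne (V.al_nonneg hcb) fun h => hmax b ⟨hc₀c.trans hcb, ?_⟩ (hlt hG0)
  rw [← V.al_add c₀ c b, hc, zero_add]
  exact h.symm

include hA in
/-- Additivity of the parabolic Hilbert function in a parabolic extension. -/
theorem parHilb_add {F G : X.Modules} (hF : Coh.IsCoh F) (hE : Coh.IsCoh E) (hG : Coh.IsCoh G)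
    (i : F ⟶ E) (p : E ⟶ G) [Epi p] (w : i ≫ p = 0) (hS : (ShortComplex.mk i p w).ShortExact)
    (a : Subobject E) (ha : Coh.IsCoh (a : X.Modules)) :
    (HPoly k L (((Subobject.pullback i).obj a : Subobject F) : X.Modules) +
        HPoly k L ((imageSubobject (a.arrow ≫ p) : Subobject G) : X.Modules) = HPoly k L (a : X.Modules)) ∧
      Coh.IsCoh (((Subobject.pullback i).obj a : Subobject F) : X.Modules) ∧
      Coh.IsCoh ((imageSubobject (a.arrow ≫ p) : Subobject G) : X.Modules) := by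
  haveI := CurvLib.isNoetherian k (X := X)
  haveI : Mono i := hS.mono_f
  let g := a.arrow ≫ p
  have hi : Coh.IsCoh ((imageSubobject g : Subobject G) : X.Modules) :=
    QCohLib.isCoh_of_iso (Abelian.imageIsoImage g ≪≫ (imageSubobjectIso g).symm) (DevissLib.isCoh_image g ha hG)
  let q := factorThruImageSubobject g
  haveI : Epi q := inferInstance
  have sq := Subobject.isPullback i a
  have hl : (Subobject.pullbackπ i a) ≫ q = 0 := by
    rw [← cancel_mono (imageSubobject g).arrow, Category.assoc, imageSubobject_arrow_comp, Limits.zero_comp]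
    simp only [g]
    rw [← Category.assoc, sq.w, Category.assoc, w, Limits.comp_zero]
  have hk : (kernel.ι q ≫ a.arrow) ≫ p = 0 := by
    rw [Category.assoc]
    exact (congrArg (kernel.ι q ≫ ·) (imageSubobject_arrow_comp g).symm).trans
      (by rw [← Category.assoc, kernel.condition, Limits.zero_comp])
  have hlift := KernelFork.IsLimit.lift' hS.fIsKernel _ hk
  let e : (((Subobject.pullback i).obj a : Subobject F) : X.Modules) ≅ kernel q :=
    { hom := kernel.lift q _ hl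
      inv := sq.lift (kernel.ι q) hlift.1 hlift.2.symm
      hom_inv_id := by
        apply (cancel_mono ((Subobject.pullback i).obj a).arrow).mp
        apply (cancel_mono i).mp
        simp only [Category.assoc, IsPullback.lift_snd_assoc, Category.id_comp]
        refine (congrArg _ hlift.2).trans ?_
        rw [← Category.assoc, kernel.lift_ι, sq.w]
      inv_hom_id := by
        apply (cancel_mono (kernel.ι q)).mp
        rw [Category.assoc, kernel.lift_ι, IsPullback.lift_fst, Category.id_comp] }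
  have hc : Coh.IsCoh (((Subobject.pullback i).obj a : Subobject F) : X.Modules) :=
    QCohLib.isCoh_of_iso e.symm (QCohLib.isCoh_kernel q ha hi.1)
  refine ⟨?_, hc, hi⟩
  rw [hPoly_congr hA hc e]
  exact (hPoly_ker hA q ha hi).symm

end ParHilbLib
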